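import Cfsg.Agent.Lib.McL27.Word
import Cfsg.Agent.Lib.HSRec.TC1
import Cfsg.Agent.Lib.HSRec.TC2
/-! Presentations on the generators a b c x s f g y of the 2-local amalgam of the Higman-Sims group -/
set_option autoImplicit false
set_option maxRecDepth 100000
namespace H1.HS
open H54
def RW : List (List ℕ) := [[0, 0, 0, 0],
  [2, 2, 2, 2],
  [4, 4, 4, 4],
  [0, 2, 1, 3],
  [0, 4, 1, 5],
  [2, 4, 3, 5]]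
def RA : List (List ℕ) := [[0, 0, 0],
  [2, 2, 2, 2, 2, 2, 2],
  [0, 2, 1, 3, 3]]
def RP : List (List ℕ) := [[0, 0, 0, 0],
  [2, 2, 2, 2],
  [4, 4, 4, 4],
  [0, 2, 1, 3],
  [0, 4, 1, 5],
  [2, 4, 3, 5],
  [6, 6, 6],
  [6, 0, 7, 1],
  [6, 2, 7, 5],
  [6, 4, 7, 0, 0, 2, 4],
  [8, 8],
  [8, 0, 8, 0],
  [8, 2, 8, 5],
  [8, 6, 8, 6],
  [10, 10],
  [10, 0, 10, 1],
  [10, 2, 10, 0, 3, 4, 4],
  [10, 4, 10, 1, 2, 2, 5],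
  [8, 10, 8, 10],
  [10, 6, 10, 6, 10, 6]]
def RM : List (List ℕ) := [[0, 0, 0, 0],
  [2, 2, 2, 2],
  [4, 4, 4, 4],
  [0, 2, 1, 3],
  [0, 4, 1, 5],
  [2, 4, 3, 5],
  [6, 6, 6],
  [6, 0, 7, 1],
  [6, 2, 7, 5],
  [6, 4, 7, 0, 0, 2, 4],
  [8, 8],
  [8, 0, 8, 0],
  [8, 2, 8, 5],
  [8, 6, 8, 6],
  [10, 10],
  [10, 0, 10, 1],
  [10, 2, 10, 0, 3, 4, 4],
  [10, 4, 10, 1, 2, 2, 5],
  [8, 10, 8, 10],
  [10, 6, 10, 6, 10, 6],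
  [12, 12, 12, 12, 12, 12, 12],
  [12, 0, 13, 3],
  [12, 2, 13, 5],
  [12, 4, 13, 1, 2, 4, 4],
  [6, 12, 7, 13, 13],
  [8, 12, 8, 12, 8, 12],
  [6, 13, 8, 12, 12, 10]]
def RH : List (List ℕ) := [[0, 0, 0, 0],
  [2, 2, 2, 2],
  [4, 4, 4, 4],
  [0, 2, 1, 3],
  [0, 4, 1, 5],
  [2, 4, 3, 5],
  [6, 6, 6],
  [6, 0, 7, 1],
  [6, 2, 7, 5],
  [6, 4, 7, 0, 0, 2, 4],
  [8, 8],
  [8, 0, 8, 0],
  [8, 2, 8, 5],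
  [8, 6, 8, 6],
  [10, 10],
  [10, 0, 10, 1],
  [10, 2, 10, 0, 3, 4, 4],
  [10, 4, 10, 1, 2, 2, 5],
  [8, 10, 8, 10],
  [10, 6, 10, 6, 10, 6],
  [12, 12],
  [12, 6, 12, 7],
  [12, 8, 12, 8],
  [12, 0, 12, 0],
  [12, 2, 4, 2, 4, 12, 10],
  [12, 3, 4, 8, 0, 12, 3, 4, 8, 0, 12, 3, 4, 8, 0]]
def R0 : List (List ℕ) := [[0, 0, 0, 0],
  [2, 2, 2, 2],
  [4, 4, 4, 4],
  [0, 2, 1, 3],
  [0, 4, 1, 5],
  [2, 4, 3, 5],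
  [6, 6, 6],
  [6, 0, 7, 1],
  [6, 2, 7, 5],
  [6, 4, 7, 0, 0, 2, 4],
  [8, 0, 9, 0],
  [8, 2, 9, 5],
  [8, 4, 9, 3],
  [8, 6, 9, 6],
  [10, 10, 10, 10, 10, 10, 10],
  [10, 0, 11, 3],
  [10, 2, 11, 5],
  [10, 4, 11, 1, 2, 4, 4],
  [6, 10, 7, 11, 11]]
def RN : List (List ℕ) := [[0, 0, 0, 0],
  [2, 2, 2, 2],
  [4, 4, 4, 4],
  [0, 2, 1, 3],
  [0, 4, 1, 5],
  [2, 4, 3, 5],
  [6, 6, 6],
  [6, 0, 7, 1],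
  [6, 2, 7, 5],
  [6, 4, 7, 0, 0, 2, 4],
  [8, 0, 9, 0],
  [8, 2, 9, 5],
  [8, 4, 9, 3],
  [8, 6, 9, 6],
  [10, 10, 10, 10, 10, 10, 10],
  [10, 0, 11, 3],
  [10, 2, 11, 5],
  [10, 4, 11, 1, 2, 4, 4],
  [6, 10, 7, 11, 11],
  [8, 8],
  [8, 10, 8, 10, 8, 10, 3]]
def RC0 : List (List ℕ) := [[0, 0, 0, 0],
  [2, 2, 2, 2],
  [4, 4, 4, 4],
  [0, 2, 1, 3],
  [0, 4, 1, 5],
  [2, 4, 3, 5],
  [6, 6, 6],
  [6, 0, 7, 1],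
  [6, 2, 7, 5],
  [6, 4, 7, 0, 0, 2, 4],
  [8, 0, 9, 0],
  [8, 2, 9, 5],
  [8, 4, 9, 3],
  [8, 6, 9, 6],
  [10, 10, 10, 10, 10, 10, 10],
  [10, 0, 11, 3],
  [10, 2, 11, 5],
  [10, 4, 11, 1, 2, 4, 4],
  [6, 10, 7, 11, 11],
  [8, 8, 0, 0],
  [8, 10, 8, 10, 8, 10]]
def RC1 : List (List ℕ) := [[0, 0, 0, 0],
  [2, 2, 2, 2],
  [4, 4, 4, 4],
  [0, 2, 1, 3],
  [0, 4, 1, 5],
  [2, 4, 3, 5],
  [6, 6, 6],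
  [6, 0, 7, 1],
  [6, 2, 7, 5],
  [6, 4, 7, 0, 0, 2, 4],
  [8, 0, 9, 0],
  [8, 2, 9, 5],
  [8, 4, 9, 3],
  [8, 6, 9, 6],
  [10, 10, 10, 10, 10, 10, 10],
  [10, 0, 11, 3],
  [10, 2, 11, 5],
  [10, 4, 11, 1, 2, 4, 4],
  [6, 10, 7, 11, 11],
  [8, 8, 0, 0],
  [8, 10, 8, 10, 8, 10, 3]]
def RG0 : List (List ℕ) := [[0, 0, 0, 0],
  [2, 2, 2, 2],
  [4, 4, 4, 4],
  [0, 2, 1, 3],
  [0, 4, 1, 5],
  [2, 4, 3, 5],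
  [6, 6, 6],
  [6, 0, 7, 1],
  [6, 2, 7, 5],
  [6, 4, 7, 0, 0, 2, 4],
  [8, 8],
  [8, 0, 8, 0],
  [8, 2, 8, 5],
  [8, 6, 8, 6],
  [10, 10],
  [10, 0, 10, 1],
  [10, 2, 10, 0, 3, 4, 4],
  [10, 4, 10, 1, 2, 2, 5],
  [8, 10, 8, 10],
  [10, 6, 10, 6, 10, 6],
  [12, 12, 12, 12, 12, 12, 12],
  [12, 0, 13, 3],
  [12, 2, 13, 5],
  [12, 4, 13, 1, 2, 4, 4],
  [6, 12, 7, 13, 13],
  [8, 12, 8, 12, 8, 12],
  [6, 13, 8, 12, 12, 10],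
  [14, 14],
  [14, 6, 14, 7],
  [14, 8, 14, 8],
  [14, 0, 14, 0],
  [14, 2, 4, 2, 4, 14, 10],
  [14, 3, 4, 8, 0, 14, 3, 4, 8, 0, 14, 3, 4, 8, 0]]
def RG : List (List ℕ) := [[0, 0, 0, 0],
  [2, 2, 2, 2],
  [4, 4, 4, 4],
  [0, 2, 1, 3],
  [0, 4, 1, 5],
  [2, 4, 3, 5],
  [6, 6, 6],
  [6, 0, 7, 1],
  [6, 2, 7, 5],
  [6, 4, 7, 0, 0, 2, 4],
  [8, 8],
  [8, 0, 8, 0],
  [8, 2, 8, 5],
  [8, 6, 8, 6],
  [10, 10],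
  [10, 0, 10, 1],
  [10, 2, 10, 0, 3, 4, 4],
  [10, 4, 10, 1, 2, 2, 5],
  [8, 10, 8, 10],
  [10, 6, 10, 6, 10, 6],
  [12, 12, 12, 12, 12, 12, 12],
  [12, 0, 13, 3],
  [12, 2, 13, 5],
  [12, 4, 13, 1, 2, 4, 4],
  [6, 12, 7, 13, 13],
  [8, 12, 8, 12, 8, 12],
  [6, 13, 8, 12, 12, 10],
  [14, 14],
  [14, 6, 14, 7],
  [14, 8, 14, 8],
  [14, 0, 14, 0],
  [14, 2, 4, 2, 4, 14, 10],
  [14, 3, 4, 8, 0, 14, 3, 4, 8, 0, 14, 3, 4, 8, 0],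
  [14, 12, 8, 13, 14, 12, 8, 13, 14, 12, 8, 13, 14, 12, 8, 13]]
def RB : List (List ℕ) := [[0, 0, 0, 0],
  [2, 2, 2, 2],
  [4, 4, 4, 4],
  [0, 2, 1, 3],
  [0, 4, 1, 5],
  [2, 4, 3, 5],
  [6, 6, 6],
  [6, 0, 7, 1],
  [6, 2, 7, 5],
  [6, 4, 7, 0, 0, 2, 4],
  [8, 8],
  [8, 0, 8, 0],
  [8, 2, 8, 5],
  [8, 6, 8, 6],
  [10, 10],
  [10, 0, 10, 1],
  [10, 2, 10, 0, 3, 4, 4],
  [10, 4, 10, 1, 2, 2, 5],
  [8, 10, 8, 10],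
  [10, 6, 10, 6, 10, 6],
  [12, 12, 12, 12, 12, 12, 12],
  [12, 0, 13, 3],
  [12, 2, 13, 5],
  [12, 4, 13, 1, 2, 4, 4],
  [6, 12, 7, 13, 13],
  [8, 12, 8, 12, 8, 12],
  [6, 13, 8, 12, 12, 10],
  [14, 14],
  [14, 6, 14, 7],
  [14, 8, 14, 8],
  [14, 0, 14, 0],
  [14, 2, 4, 2, 4, 14, 10],
  [14, 3, 4, 8, 0, 14, 3, 4, 8, 0, 14, 3, 4, 8, 0],
  [14, 12, 8, 13, 14, 12, 8, 13, 14, 12, 8, 13, 14, 12, 8, 13, 0, 3, 8, 10, 5]]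
def RL : List (List ℕ) := [[0, 0, 0],
  [2, 2],
  [2, 0, 2, 0],
  [4, 4, 4, 4, 4, 4, 4],
  [0, 4, 1, 5, 5],
  [2, 4, 2, 4, 2, 4]]
theorem bndW : Bnd RW 3 64 :=
  Bnd.tc (bnd_zero []) (n := 64) (fun g ω => T54.H1HSW.enum g ω) (by decide) [0, 1, 2, 3, 4, 5] rfl (icol_ge _ rfl)
    []
    [([0, 1], []),
  ([1, 0], []),
  ([2, 3], []),
  ([3, 2], []),
  ([4, 5], []),
  ([5, 4], [])]
    (by decide +kernel)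
theorem bndA : Bnd RA 2 21 :=
  Bnd.tc (bnd_zero []) (n := 21) (fun g ω => T54.H1HSA.enum g ω) (by decide) [0, 1, 2, 3] rfl (icol_ge _ rfl)
    []
    [([0, 1], []),
  ([1, 0], []),
  ([2, 3], []),
  ([3, 2], [])]
    (by decide +kernel)
theorem bndP : Bnd RP 6 1536 :=
  Bnd.tc bndW (n := 24) (fun g ω => T54.H1HSP.enum g ω) (by decide) [0, 1, 2, 3, 4, 5, 6, 7, 8, 10] rfl (icol_ge _ rfl)
    [[0],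
  [2],
  [4]]
    [([0, 1], []),
  ([1, 0], []),
  ([2, 3], []),
  ([3, 2], []),
  ([4, 5], []),
  ([5, 4], []),
  ([6, 7], []),
  ([7, 6], [])]
    (by decide +kernel)
theorem bndM : Bnd RM 7 10752 :=
  Bnd.tc bndP (n := 7) (fun g ω => T54.H1HSM.enum g ω) (by decide) [0, 1, 2, 3, 4, 5, 6, 7, 8, 10, 12, 13] rfl (icol_ge _ rfl)
    [[0],
  [2],
  [4],
  [6],
  [8],
  [10]]
    [([0, 1], []),
  ([1, 0], []),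
  ([2, 3], []),
  ([3, 2], []),
  ([4, 5], []),
  ([5, 4], []),
  ([6, 7], []),
  ([7, 6], []),
  ([12, 13], []),
  ([13, 12], [])]
    (by decide +kernel)
theorem bndH : Bnd RH 7 7680 :=
  Bnd.tc bndP (n := 5) (fun g ω => T54.H1HSH.enum g ω) (by decide) [0, 1, 2, 3, 4, 5, 6, 7, 8, 10, 12] rfl (icol_ge _ rfl)
    [[0],
  [2],
  [4],
  [6],
  [8],
  [10]]
    [([0, 1], []),
  ([1, 0], []),
  ([2, 3], []),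
  ([3, 2], []),
  ([4, 5], []),
  ([5, 4], []),
  ([6, 7], []),
  ([7, 6], [])]
    (by decide +kernel)
theorem bndN : Bnd RN 6 10752 :=
  Bnd.tc bndW (n := 168) (fun g ω => T54.H1HSN.enum g ω) (by decide) [0, 1, 2, 3, 4, 5, 6, 7, 8, 10, 11] rfl (icol_ge _ rfl)
    [[0],
  [2],
  [4]]
    [([0, 1], []),
  ([1, 0], []),
  ([2, 3], []),
  ([3, 2], []),
  ([4, 5], []),
  ([5, 4], []),
  ([6, 7], []),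
  ([7, 6], []),
  ([10, 11], []),
  ([11, 10], []),
  ([8, 0, 8, 0], [([], 21), ([8, 0], 39)]),
  ([8, 2, 8, 5], [([], 23), ([8, 2], 39)]),
  ([8, 4, 8, 3], [([2, 9, 5], 22), ([], 39)]),
  ([8, 6, 8, 6], [([], 27), ([8, 6], 39)])]
    (by decide +kernel)
theorem bndC0 : Bnd RC0 6 1344 :=
  Bnd.tc bndA (n := 64) (fun g ω => T54.H1HSC0.enum g ω) (by decide) [0, 1, 2, 3, 4, 5, 6, 7, 8, 9, 10, 11] rfl (icol_ge _ rfl)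
    [[6],
  [10]]
    [([0, 1], []),
  ([1, 0], []),
  ([2, 3], []),
  ([3, 2], []),
  ([4, 5], []),
  ([5, 4], []),
  ([6, 7], []),
  ([7, 6], []),
  ([8, 9], []),
  ([9, 8], []),
  ([10, 11], []),
  ([11, 10], [])]
    (by decide +kernel)
theorem bndC1 : Bnd RC1 6 1344 :=
  Bnd.tc bndA (n := 64) (fun g ω => T54.H1HSC1.enum g ω) (by decide) [0, 1, 2, 3, 4, 5, 6, 7, 8, 9, 10, 11] rfl (icol_ge _ rfl)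
    [[6],
  [10]]
    [([0, 1], []),
  ([1, 0], []),
  ([2, 3], []),
  ([3, 2], []),
  ([4, 5], []),
  ([5, 4], []),
  ([6, 7], []),
  ([7, 6], []),
  ([8, 9], []),
  ([9, 8], []),
  ([10, 11], []),
  ([11, 10], [])]
    (by decide +kernel)
theorem bndB : Bnd RB 8 10752 :=
  Bnd.tc bndM (n := 1) (fun g ω => T54.H1HSB.enum g ω) (by decide) [0, 1, 2, 3, 4, 5, 6, 7, 8, 10, 12, 13, 14] rfl (icol_ge _ rfl)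
    [[0],
  [2],
  [4],
  [6],
  [8],
  [10],
  [12]]
    [([0, 1], []),
  ([1, 0], []),
  ([2, 3], []),
  ([3, 2], []),
  ([4, 5], []),
  ([5, 4], []),
  ([6, 7], []),
  ([7, 6], []),
  ([12, 13], []),
  ([13, 12], [])]
    (by decide +kernel)
theorem bndG : Bnd RG 8 44352000 :=
  Bnd.tc bndM (n := 4125) (fun g ω => T54.H1HSG.enum g ω) (by decide) [0, 1, 2, 3, 4, 5, 6, 7, 8, 10, 12, 13, 14] rfl (icol_ge _ rfl)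
    [[0],
  [2],
  [4],
  [6],
  [8],
  [10],
  [12]]
    [([0, 1], []),
  ([1, 0], []),
  ([2, 3], []),
  ([3, 2], []),
  ([4, 5], []),
  ([5, 4], []),
  ([6, 7], []),
  ([7, 6], []),
  ([12, 13], []),
  ([13, 12], [])]
    (by decide +kernel)
theorem eqns_pres : True := by
  have := @RW.eq_1
  have := @RA.eq_1
  have := @RP.eq_1
  have := @RM.eq_1
  have := @RH.eq_1
  have := @R0.eq_1
  have := @RN.eq_1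
  have := @RC0.eq_1
  have := @RC1.eq_1
  have := @RG0.eq_1
  have := @RG.eq_1
  have := @RB.eq_1
  have := @RL.eq_1
  trivial
end H1.HS
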