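import Cfsg.Agent.Lib.HSRec.Model2
import Cfsg.Agent.Lib.HSRec.TC3
/-! The split extension of `4³` by `L₃(2)` on six generators -/
set_option autoImplicit false
set_option maxRecDepth 100000
namespace H1.HS
open H54 H27.W H16 Cfsg
def RS : List (List ℕ) := [[0, 0, 0, 0],
  [2, 2, 2, 2],
  [4, 4, 4, 4],
  [0, 2, 1, 3],
  [0, 4, 1, 5],
  [2, 4, 3, 5],
  [6, 6, 6],
  [6, 0, 7, 1],
  [6, 2, 7, 5],
  [6, 4, 7, 0, 0, 2, 4],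
  [8, 0, 9, 0],
  [8, 2, 9, 5],
  [8, 4, 9, 3],
  [8, 6, 9, 6],
  [10, 10, 10, 10, 10, 10, 10],
  [10, 0, 11, 3],
  [10, 2, 11, 5],
  [10, 4, 11, 1, 2, 4, 4],
  [6, 10, 7, 11, 11],
  [8, 8],
  [8, 10, 8, 10, 8, 10]]
theorem bndS : Bnd RS 6 10752 :=
  Bnd.tc bndW (n := 168) (fun g ω => T54.H1HSS.enum g ω) (by decide) [0, 1, 2, 3, 4, 5, 6, 7, 8, 10, 11] rfl (icol_ge _ rfl)
    [[0],
  [2],
  [4]]
    [([0, 1], []),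
  ([1, 0], []),
  ([2, 3], []),
  ([3, 2], []),
  ([4, 5], []),
  ([5, 4], []),
  ([6, 7], []),
  ([7, 6], []),
  ([10, 11], []),
  ([11, 10], []),
  ([8, 0, 8, 0], [([], 21), ([8, 0], 39)]),
  ([8, 2, 8, 5], [([], 23), ([8, 2], 39)]),
  ([8, 4, 8, 3], [([2, 9, 5], 22), ([], 39)]),
  ([8, 6, 8, 6], [([], 27), ([8, 6], 39)])]
    (by decide +kernel)
def RV : List (List ℕ) := [[2, 4, 2, 4, 2, 4, 2, 4],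
  [8, 2, 4, 2, 4, 9, 5, 3, 5, 3],
  [2, 4, 2, 4, 6, 2, 4, 2, 4, 6, 2, 4, 2, 4, 6],
  [6, 2, 4, 2, 4, 7, 3, 3],
  [6, 2, 2, 7, 5, 5]]
theorem impV : Imp R0 RV := Imp.dv [([2, 4, 2, 4, 2, 4, 2, 4], [([5, 3, 5, 3, 5, 3, 3, 5], 11), ([5, 3, 5, 3, 5, 2, 2], 3), ([5, 3, 5, 3, 5], 10), ([5, 3, 4, 4], 5), ([5, 3], 11), ([4, 3, 5], 11)]),
  ([8, 2, 4, 2, 4, 9, 5, 3, 5, 3], [([2, 4, 2, 4, 8, 5, 3, 5, 9, 5], 23), ([], 10), ([4], 25), ([4, 8, 4, 2, 9, 5], 23), ([4, 8, 4, 2, 4, 9, 3], 25), ([4, 8, 4, 2, 4, 9, 5, 3], 10)]),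
  ([2, 4, 2, 4, 6, 2, 4, 2, 4, 6, 2, 4, 2, 4, 6], [([7, 5, 3, 5, 3, 7, 5, 3, 5, 3, 7, 5, 3, 3, 5], 11), ([7], 19), ([4, 7, 0, 0, 5, 3, 7, 5, 3, 3, 5], 11), ([4, 7, 0, 0, 5, 3, 7, 5, 3, 3, 5, 7], 19), ([4, 7, 0, 0, 3, 5], 11), ([4, 7, 0, 0, 3, 5, 7], 19), ([4, 7, 0, 0, 3, 7, 0, 0, 3, 7, 1, 1], 0), ([4, 7, 0, 0, 3, 7, 0, 0, 3, 1, 7], 14), ([4, 7, 0, 0, 3, 7, 0, 3], 7), ([4, 7, 0, 0, 3, 7, 3], 7), ([4, 7, 0, 0, 3, 7, 3, 7], 14), ([4, 7, 0, 0, 3, 7, 7, 5], 17), ([4, 7, 0, 0, 3, 6], 13), ([4, 2, 7, 5], 17), ([4, 2, 7], 19), ([4, 2, 4, 7, 0], 6), ([4, 2, 4, 7], 6), ([4, 2, 4, 7, 2], 0)]),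
  ([6, 2, 4, 2, 4, 7, 3, 3], [([2, 2, 6, 5, 3, 5, 7, 5], 17), ([3, 3], 2), ([4], 19), ([4, 6, 4, 2, 7, 5], 17), ([4, 6, 4, 2, 7], 19), ([4, 6, 4, 2, 4, 7, 0], 6), ([4, 6, 4, 2, 4, 7], 6), ([4, 6, 4, 2, 4, 7, 2], 0)]),
  ([6, 2, 2, 7, 5, 5], [([4, 4, 6, 3, 7, 5], 17), ([4], 17)])] (by decide +kernel)
noncomputable def pS : ℕ → Spor.HS := rx pp [0, 1, 2, 3, 4, 6]
theorem pS_wm : WM c100 pt100 pS (fun l => ppN.get (rl [0, 1, 2, 3, 4, 6] l)) 6 :=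
  WM.rx pp_wm _ (by decide +kernel)
def ES : List (List ℕ) := [[0], [2], [4], [6], [8], [11, 11, 9, 10, 7], [10]]
theorem impS {G : Type*} [Group G] [Finite G] {x : ℕ → G} (h : Rels RS x) :
    Rels RM (fun i => evW x (nthW ES i)) :=
  haveI := finite_sHS
  ((hom_of_bnd bndS (pS_wm.rels (by decide +kernel)) (by decide +kernel)
    (pS_wm.card_ge [[2, 8, 2], [2, 10]] (by decide +kernel) chMx_low chMx_size) h).rels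
    (pS_wm.rels (R := RM.map (subW ES)) (by decide +kernel)) (by decide +kernel)).subW
theorem eqns_pres2 : True := by
  have := @RS.eq_1
  have := @RV.eq_1
  have := @pS.eq_1
  have := @ES.eq_1
  trivial
end H1.HS
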